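import Groth.Agent.L22.PicGlue.Cocycle
import Groth.Agent.L18.GenLocus

/-!
# An invertible module from local equations with disjoint zero loci

On a cover `W` with functions `f i` on `W i` such that `f i` is invertible on every overlap with
another member, there is an invertible module with a section whose locus meets `W i` in `D(f i)`.
The `f i` may be zero divisors.
-/

set_option autoImplicit false
set_option linter.style.haveILetI false
set_option backward.isDefEq.respectTransparency false

universe u

open CategoryTheory AlgebraicGeometry TopologicalSpace Opposite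

noncomputable section

namespace Groth.L27.AmpleFam

open Groth.L18.Frame (rs ro rs_rs rs_self rs_smul ro_ro ro_self ro_mul IsFrame)
open Groth.L18.GenLoc (secOf secOf_homOfSection genLocus_inf_eq)

variable {X : Scheme.{u}} {ι : Type u} (W : ι → X.Opens) (f : ∀ i, Γ(X, W i))

theorem isUnit_ro {U V : X.Opens} (h : V ≤ U) (a : Γ(X, U)) (ha : V ≤ X.basicOpen a) :
    IsUnit (ro h a) := by
  have h1 : IsUnit (ro (X.basicOpen_le a) a) := RingedSpace.isUnit_res_basicOpen X.toRingedSpace a
  have h2 := h1.map (X.presheaf.map (homOfLE ha).op).hom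
  rwa [show (X.presheaf.map (homOfLE ha).op).hom (ro (X.basicOpen_le a) a) = ro ha (ro (X.basicOpen_le a) a) from rfl,
    ro_ro] at h2

open Classical in
/-- The transition function `f i / f j`. -/
def trans (hd : ∀ i j, i ≠ j → W i ⊓ W j ≤ X.basicOpen (f i)) (i j : ι) : Γ(X, W i ⊓ W j) :=
  if h : i = j then 1 else
    ro (inf_le_left : W i ⊓ W j ≤ W i) (f i) *
      ↑(isUnit_ro (inf_le_right : W i ⊓ W j ≤ W j) (f j)
        ((inf_comm (W i) (W j)).le.trans (hd j i (Ne.symm h)))).unit⁻¹

variable {W f} (hd : ∀ i j, i ≠ j → W i ⊓ W j ≤ X.basicOpen (f i))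

theorem trans_self (i : ι) : trans W f hd i i = 1 := by
  rw [trans, dif_pos rfl]

theorem trans_mul {i j : ι} {V : X.Opens} (hi : V ≤ W i) (hj : V ≤ W j) :
    ro (le_inf hi hj) (trans W f hd i j) * ro hj (f j) = ro hi (f i) := by
  classical
  by_cases h : i = j
  · subst h
    rw [trans_self, show ro (le_inf hi hj) (1 : Γ(X, W i ⊓ W i)) = 1 from map_one _, one_mul]
  · have h1 := isUnit_ro (inf_le_right : W i ⊓ W j ≤ W j) (f j)
      ((inf_comm (W i) (W j)).le.trans (hd j i (Ne.symm h)))
    have h2 : trans W f hd i j * ro inf_le_right (f j) = ro inf_le_left (f i) := by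
      rw [trans, dif_neg h, mul_assoc, h1.val_inv_mul, mul_one]
    have h3 := congrArg (ro (le_inf hi hj)) h2
    rwa [ro_mul, ro_ro, ro_ro] at h3

include hd in
theorem isUnit_of_ne {i j : ι} (h : i ≠ j) {V : X.Opens} (hi : V ≤ W i) (hj : V ≤ W j) :
    IsUnit (ro hi (f i)) :=
  isUnit_ro hi (f i) ((le_inf hi hj).trans (hd i j h))

theorem trans_comp {i j k : ι} {V : X.Opens} (hi : V ≤ W i) (hj : V ≤ W j) (hk : V ≤ W k) :
    ro (le_inf hi hj) (trans W f hd i j) * ro (le_inf hj hk) (trans W f hd j k) =
      ro (le_inf hi hk) (trans W f hd i k) := by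
  classical
  by_cases hij : i = j
  · subst hij
    rw [trans_self, show ro (le_inf hi hj) (1 : Γ(X, W i ⊓ W i)) = 1 from map_one _, one_mul]
  by_cases hjk : j = k
  · subst hjk
    rw [trans_self, show ro (le_inf hj hk) (1 : Γ(X, W j ⊓ W j)) = 1 from map_one _, mul_one]
  refine (isUnit_of_ne hd (Ne.symm hjk) hk hj).mul_right_cancel ?_
  rw [mul_assoc, trans_mul hd hj hk, trans_mul hd hi hj, trans_mul hd hi hk]

/-- Local equations whose zero loci are apart cut out the complement of the locus of a section of an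
invertible module. -/
theorem exists_section_of_cover (hcov : ∀ x : X, ∃ i, x ∈ W i)
    (hd : ∀ i j, i ≠ j → W i ⊓ W j ≤ X.basicOpen (f i)) :
    ∃ (N : X.Modules) (s : Coh.structureModule X ⟶ N), PicF.IsInvertible N ∧
      ∀ i, CohB1.genLocus N s ⊓ W i = X.basicOpen (f i) := by
  let C : Groth.L22.PicGlue.Cocycle X :=
    { ι := ι
      N := W
      g := fun i j => trans W f hd i j
      one := fun i => trans_self hd i
      comp := fun i j k =>
        trans_comp hd (inf_le_left.trans inf_le_left) (inf_le_left.trans inf_le_right) inf_le_right }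
  let N := Groth.L22.PicGlue.glueMod C
  let d : ∀ i : ι, Γ(N, W i) := fun i => Groth.L22.PicGlue.gen C i
  have hdf : ∀ i, IsFrame N (W i) (d i) := fun i V h => Groth.L22.PicGlue.isGen_gen C i V h
  have hT : ∀ i j : ι, rs N (inf_le_left : W i ⊓ W j ≤ W i) (f i • d i) =
      rs N (inf_le_right : W i ⊓ W j ≤ W j) (f j • d j) := by
    intro i j
    have hdd : rs N (inf_le_right : W i ⊓ W j ≤ W j) (d j) =
        trans W f hd i j • rs N inf_le_left (d i) := Groth.L22.PicGlue.gen_trans C i j
    rw [rs_smul, rs_smul, hdd, smul_smul]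
    congr 1
    have := trans_mul hd (inf_le_left : W i ⊓ W j ≤ W i) inf_le_right
    rw [ro_self] at this
    rw [← this, mul_comm]
  let ON : TopCat.Sheaf Ab.{u} X.toTopCat := ⟨N.presheaf, N.isSheaf⟩
  obtain ⟨σ, hσ, -⟩ := ON.existsUnique_gluing' W ⊤ (fun i => homOfLE le_top)
    (fun x _ => Opens.mem_iSup.2 (hcov x)) (fun i => f i • d i) fun i j => hT i j
  refine ⟨N, Groth.L16.homOfSection N σ, Groth.L22.PicGlue.isInvertible_glueMod C hcov, fun i => ?_⟩
  exact genLocus_inf_eq _ (hdf i) (by rw [secOf_homOfSection]; exact (hσ i).symm)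

end Groth.L27.AmpleFam
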