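import Groth.Agent.L13.Nagata.AmpleFamily
import Groth.Agent.L27.AmpleFam.Glue
import Mathlib.AlgebraicGeometry.Noetherian

/-!
# Divisors through prescribed points avoiding the generic points

`Thin X z` says that every proper generisation of `z` is a generic point of `X`; this holds for
points whose local ring has dimension at most one.
-/

set_option autoImplicit false
set_option linter.style.haveILetI false
set_option backward.isDefEq.respectTransparency.types false

universe u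

open CategoryTheory AlgebraicGeometry TopologicalSpace

noncomputable section

namespace Groth.L27.AmpleFam

variable {T : Type*} [TopologicalSpace T]

/-- A point with no proper generisation. -/
def IsGen (z : T) : Prop := ∀ w : T, w ⤳ z → w = z

/-- A point all of whose proper generisations are generic. -/
def Thin (z : T) : Prop := ∀ w : T, w ⤳ z → w ≠ z → IsGen w

theorem thin_of_dim_le {X : Scheme.{u}} {z : X} (h : ringKrullDim (X.presheaf.stalk z) ≤ 1) : Thin z := by
  intro w hw hne v hv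
  by_contra hvw
  rw [ringKrullDim_stalk_eq_coheight] at h
  have hzw : z < w := lt_of_le_not_ge (show z ≤ w from hw) fun h' => hne (hw.antisymm h').eq
  have hwv : w < v := lt_of_le_not_ge (show w ≤ v from hv) fun h' => hvw (hv.antisymm h').eq
  have h1 : Order.coheight w + 1 ≤ Order.coheight z := Order.coheight_add_one_le hzw
  have h2 : Order.coheight v + 1 ≤ Order.coheight w := Order.coheight_add_one_le hwv
  have h3 : (2 : ℕ∞) ≤ Order.coheight z := by
    refine le_trans ?_ h1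
    refine le_trans ?_ (add_le_add_left h2 1)
    rw [add_assoc]
    exact le_add_left le_rfl
  exact absurd (h3.trans (WithBot.coe_le_coe.1 h)) (by decide)

variable [NoetherianSpace T] [QuasiSober T]

theorem exists_specializes (O C : Set T) (hO : IsOpen O) (hC : IsClosed C) {x : T} (hx : x ∈ closure (O ∩ C)) :
    ∃ q ∈ O ∩ C, q ⤳ x := by
  obtain ⟨S, hSf, hSc, hSi, hSU⟩ := NoetherianSpace.exists_finite_set_isClosed_irreducible
    (isClosed_closure (s := O ∩ C))
  let S' : Set (Set T) := {Z | Z ∈ S ∧ ((O ∩ C) ∩ Z).Nonempty}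
  have hsub : O ∩ C ⊆ ⋃₀ S' := fun y hy => by
    obtain ⟨Z, hZ, hyZ⟩ := Set.mem_sUnion.mp (hSU ▸ subset_closure hy)
    exact ⟨Z, ⟨hZ, y, hy, hyZ⟩, hyZ⟩
  have hcl : IsClosed (⋃₀ S') :=
    Set.sUnion_eq_biUnion ▸ (hSf.subset fun Z (hZ : Z ∈ S') => hZ.1).isClosed_biUnion
      (fun Z (hZ : Z ∈ S') => hSc Z hZ.1)
  obtain ⟨Z, ⟨hZS, y, hy, hyZ⟩, hxZ⟩ := Set.mem_sUnion.mp (hcl.closure_subset (closure_mono hsub hx))
  obtain ⟨q, hq⟩ := QuasiSober.sober (hSi Z hZS) (hSc Z hZS)
  refine ⟨q, ⟨(hq.specializes hyZ).mem_open hO hy.1, ?_⟩, hq.specializes hxZ⟩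
  have hqc : q ∈ closure (O ∩ C) := hSU ▸ Set.mem_sUnion.2 ⟨Z, hZS, hq.mem⟩
  exact hC.closure_subset (closure_mono Set.inter_subset_right hqc)

theorem isGen_mem_of_dense {A : Set T} (hA : IsOpen A) (hd : Dense A) {η : T} (hη : IsGen η) : η ∈ A := by
  obtain ⟨q, hq, hqη⟩ := exists_specializes A Set.univ hA isClosed_univ (x := η) (by rw [Set.inter_univ]; exact hd η)
  exact hη q hqη ▸ hq.1

/-- Only finitely many points of a closed set have no generisation inside it. -/
theorem finite_maximal [T0Space T] {E : Set T} (hE : IsClosed E) :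
    {z | z ∈ E ∧ ∀ w ∈ E, w ⤳ z → w = z}.Finite := by
  obtain ⟨S, hSf, hSc, hSi, hSU⟩ := NoetherianSpace.exists_finite_set_isClosed_irreducible hE
  haveI := hSf.to_subtype
  refine (Set.finite_range fun Z : S => (hSi Z.1 Z.2).genericPoint).subset ?_
  rintro z ⟨hz, hmax⟩
  rw [hSU] at hz
  obtain ⟨Z, hZ, hzZ⟩ := Set.mem_sUnion.1 hz
  have hq := (hSi Z hZ).isGenericPoint_genericPoint (hSc Z hZ)
  exact ⟨⟨Z, hZ⟩, hmax _ (hSU ▸ Set.mem_sUnion.2 ⟨Z, hZ, hq.mem⟩) (hq.specializes hzZ)⟩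

theorem finite_isGen [T0Space T] : {η : T | IsGen η}.Finite :=
  (finite_maximal isClosed_univ).subset fun _ hη => ⟨trivial, fun w _ hw => hη w hw⟩

omit [NoetherianSpace T] [QuasiSober T] in
/-- Thin points of a closed set without generic points are maximal in it. -/
theorem maximal_of_thin {E : Set T} (hE : ∀ η, IsGen η → η ∉ E) {z : T} (hz : Thin z) :
    ∀ w ∈ E, w ⤳ z → w = z := fun w hw hwz => by
  by_contra hne
  exact hE w (hz w hwz hne) hw

variable {X : Scheme.{u}} [IsNoetherian X]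

/-- A basic open of an affine open containing finitely many points and inside an open. -/
theorem exists_basicOpen_finite {U : X.Opens} (hU : IsAffineOpen U) {F : Set X} (hF : F.Finite) (O : X.Opens)
    (hFU : F ⊆ U) (hFO : F ⊆ O) : ∃ f : Γ(X, U), F ⊆ X.basicOpen f ∧ X.basicOpen f ≤ O := by
  rcases F.eq_empty_or_nonempty with rfl | ⟨t, ht⟩
  · exact ⟨0, Set.empty_subset _, by simp⟩
  let Z : Set (PrimeSpectrum Γ(X, U)) := (hU.fromSpec ⁻¹' (O : Set X))ᶜ
  have hZc : IsClosed Z := (O.isOpen.preimage hU.fromSpec.continuous).isClosed_compl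
  let T' : Set (PrimeSpectrum Γ(X, U)) := hU.fromSpec ⁻¹' F
  have hT' : T'.Finite := hF.preimage hU.fromSpec.isOpenEmbedding.injective.injOn
  obtain ⟨q0, hq0⟩ : ∃ q, hU.fromSpec q = t := hU.range_fromSpec.ge (hFU ht)
  have hns : ¬ ((PrimeSpectrum.vanishingIdeal Z : Ideal Γ(X, U)) : Set Γ(X, U)) ⊆
      ⋃ q ∈ T', (q.asIdeal : Set Γ(X, U)) := by
    rw [Ideal.subset_union_prime_finite hT' q0 q0 fun q _ _ _ => q.isPrime]
    rintro ⟨q, hqT, hle⟩
    have h : q ∈ PrimeSpectrum.zeroLocus (PrimeSpectrum.vanishingIdeal Z : Set Γ(X, U)) := hle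
    rw [PrimeSpectrum.zeroLocus_vanishingIdeal_eq_closure, hZc.closure_eq] at h
    exact h (hFO hqT)
  obtain ⟨f, hfI, hf⟩ := Set.not_subset.1 hns
  refine ⟨f, fun y hy => ?_, fun x hx => ?_⟩
  · obtain ⟨q, rfl⟩ := hU.range_fromSpec.ge (hFU hy)
    exact (SetLike.ext_iff.1 (hU.fromSpec_preimage_basicOpen f) q).2 fun hfq => hf (Set.mem_biUnion (hy : q ∈ T') hfq)
  · obtain ⟨q, rfl⟩ := hU.range_fromSpec.ge (X.basicOpen_le f hx)
    by_contra hn
    exact (SetLike.ext_iff.1 (hU.fromSpec_preimage_basicOpen f) q).1 hx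
      ((PrimeSpectrum.mem_vanishingIdeal Z f).1 hfI q hn)

theorem exists_dense_affine (y : X) : ∃ A : X.Opens, y ∈ A ∧ IsAffineOpen A ∧ Dense (A : Set X) := by
  obtain ⟨B, hB, hyB, -⟩ := exists_isAffineOpen_mem_and_subset (x := y) (U := (⊤ : X.Opens)) trivial
  obtain ⟨A, hBA, hA, hd⟩ := Groth.L13.Nagata.exists_dense_affine_ge
    NoetherianSpace.finite_irreducibleComponents hB
  exact ⟨A, hBA hyB, hA, hd⟩

/-- Near a thin point of a closed set without generic points, the set has one equation. -/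
theorem exists_equation {E : Set X} (hE : IsClosed E) (hgen : ∀ η, IsGen η → η ∉ E) {z : X} (hzE : z ∈ E)
    (hz : Thin z) :
    ∃ (W : X.Opens) (f : Γ(X, W)), z ∈ W ∧ (X.basicOpen f : Set X) = (W : Set X) \ E ∧
      (W : Set X) ∩ E ⊆ closure {z} := by
  obtain ⟨B, hB, hzB, -⟩ := exists_isAffineOpen_mem_and_subset (x := z) (U := (⊤ : X.Opens)) trivial
  obtain ⟨f, hf, hfle⟩ := exists_basicOpen_finite hB
    ((finite_isGen (T := X)).inter_of_left (B : Set X)) (⟨Eᶜ, hE.isOpen_compl⟩ : X.Opens)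
    Set.inter_subset_right (fun η hη => hgen η hη.1)
  let Zf : Set X := (X.basicOpen f : Set X)ᶜ
  have hZf : IsClosed Zf := (X.basicOpen f).isOpen.isClosed_compl
  let R : Set X := closure (((B : Set X) \ closure {z}) ∩ Zf) ∪ closure ((closure {z})ᶜ ∩ E)
  have hzR : z ∉ R := by
    rintro (h | h)
    · rw [Set.sdiff_eq] at h
      obtain ⟨w, ⟨⟨hwB, hwz⟩, hwZ⟩, hw⟩ :=
        exists_specializes _ _ (B.isOpen.inter isClosed_closure.isOpen_compl) hZf h
      have hne : w ≠ z := fun e => hwz (e ▸ subset_closure rfl)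
      exact hwZ (hf ⟨hz w hw hne, hwB⟩)
    · obtain ⟨w, ⟨hwz, hwE⟩, hw⟩ := exists_specializes _ _ isClosed_closure.isOpen_compl hE h
      exact hwz (maximal_of_thin hgen hz w hwE hw ▸ subset_closure rfl)
  let W : X.Opens := B ⊓ ⟨Rᶜ, (isClosed_closure.union isClosed_closure).isOpen_compl⟩
  have hWE : (W : Set X) ∩ E ⊆ closure {z} := fun w hw => by
    by_contra hn
    exact hw.1.2 (Or.inr (subset_closure ⟨hn, hw.2⟩))
  refine ⟨W, X.presheaf.map (homOfLE (inf_le_left : W ≤ B)).op f, ⟨hzB, hzR⟩, ?_, hWE⟩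
  rw [Scheme.basicOpen_res]
  ext w
  constructor
  · exact fun ⟨hwW, hwf⟩ => ⟨hwW, fun hwE => hfle hwf hwE⟩
  · rintro ⟨hwW, hwE⟩
    refine ⟨hwW, not_not.1 fun hwf => hwE ?_⟩
    have : w ∈ closure ({z} : Set X) := by
      by_contra hn
      exact hwW.2 (Or.inl (subset_closure ⟨⟨hwW.1, hn⟩, hwf⟩))
    exact (specializes_iff_mem_closure.2 this).mem_closed hE hzE

end Groth.L27.AmpleFam
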