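import Groth.Agent.L27.AmpleFam.Points

/-!
# A partial line bundle with a section generating only inside an affine open
-/

set_option autoImplicit false
set_option linter.style.haveILetI false
set_option backward.isDefEq.respectTransparency.types false

universe u

open CategoryTheory AlgebraicGeometry TopologicalSpace

noncomputable section

namespace Groth.L27.AmpleFam

variable {X : Scheme.{u}} [IsNoetherian X]

/-- The closed set and the local equations. -/
theorem exists_boundary (x y : X) (hy : y = x ∨ Thin y) :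
    ∃ (A U : X.Opens) (E : Set X) (g : Γ(X, U)), IsAffineOpen A ∧ x ∈ U ∧ IsClosed E ∧ y ∉ E ∧
      (∀ η, IsGen η → η ∉ E) ∧ Eᶜ ⊆ (A : Set X) ∧ (X.basicOpen g : Set X) = (U : Set X) \ E := by
  obtain ⟨A, hyA, hA, hAd⟩ := exists_dense_affine y
  obtain ⟨U, hU, hxU, -⟩ := exists_isAffineOpen_mem_and_subset (x := x) (U := (⊤ : X.Opens)) trivial
  have hgenA : ∀ η : X, IsGen η → η ∈ A := fun η hη => isGen_mem_of_dense A.isOpen hAd hη
  obtain ⟨g, hg, hgA⟩ := exists_basicOpen_finite hU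
    (F := ({η | IsGen η} ∪ {y}) ∩ (U : Set X)) ((finite_isGen.union (Set.finite_singleton y)).inter_of_left _)
    A Set.inter_subset_right (by
      rintro η ⟨hη | rfl, -⟩
      exacts [hgenA η hη, hyA])
  let S : Set X := (U : Set X) ∩ (X.basicOpen g : Set X)ᶜ
  have hS : ∀ w, w ∈ closure S → ∃ q ∈ S, q ⤳ w := fun w hw =>
    exists_specializes _ _ U.isOpen (X.basicOpen g).isOpen.isClosed_compl hw
  have hgenE : ∀ η : X, IsGen η → η ∉ (A : Set X)ᶜ ∪ closure S := by
    rintro η hη (h | h)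
    · exact h (hgenA η hη)
    · obtain ⟨q, hq, hqη⟩ := hS η h
      obtain rfl := hη q hqη
      exact hq.2 (hg ⟨Or.inl hη, hq.1⟩)
  have hSU : ∀ w ∈ closure S, w ∈ U → w ∈ S := fun w hw hwU => by
    obtain ⟨q, hq, hqw⟩ := hS w hw
    exact ⟨hwU, hqw.mem_closed (X.basicOpen g).isOpen.isClosed_compl hq.2⟩
  refine ⟨A, U, (A : Set X)ᶜ ∪ closure S, g, hA, hxU, A.isOpen.isClosed_compl.union isClosed_closure, ?_, hgenE,
    fun w hw => not_not.1 fun hn => hw (Or.inl hn), ?_⟩
  · rintro (h | h)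
    · exact h hyA
    · by_cases hyU : y ∈ U
      · exact (hSU y h hyU).2 (hg ⟨Or.inr rfl, hyU⟩)
      · rcases hy with rfl | hy
        · exact hyU hxU
        · obtain ⟨q, hq, hqy⟩ := hS y h
          have hne : q ≠ y := fun e => hyU (e ▸ hq.1)
          exact hq.2 (hg ⟨Or.inl (hy q hqy hne), hq.1⟩)
  · ext w
    constructor
    · intro hw
      refine ⟨X.basicOpen_le g hw, ?_⟩
      rintro (h | h)
      · exact h (hgA hw)
      · exact (hSU w h (X.basicOpen_le g hw)).2 hw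
    · rintro ⟨hwU, hwE⟩
      exact not_not.1 fun hn => hwE (Or.inr (subset_closure ⟨hwU, hn⟩))

/-- For a point `x` and a point `y` which is `x` or thin: an invertible module near `x` and all thin
points with a section generating at `y` and only inside an affine open. -/
theorem exists_divisor (x y : X) (hy : y = x ∨ Thin y) :
    ∃ (V G A : X.Opens) (N : (V : Scheme.{u}).Modules) (s : Coh.structureModule (V : Scheme.{u}) ⟶ N),
      x ∈ V ∧ (∀ z, Thin z → z ∈ V) ∧ y ∈ G ∧ IsAffineOpen A ∧ G ≤ A ∧ PicF.IsInvertible N ∧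
      CohB1.genLocus N s = V.ι ⁻¹ᵁ G ∧ {z | Thin z ∧ z ∉ G}.Finite := by
  classical
  obtain ⟨A, U, E, g, hA, hxU, hE, hyE, hgen, hEA, hg⟩ := exists_boundary x y hy
  let Z : Type u := {z : X // z ∈ E ∧ z ∉ U ∧ Thin z}
  choose W f hzW hf hWE using fun z : Z => exists_equation hE hgen z.2.1 z.2.2.2
  let G : X.Opens := ⟨Eᶜ, hE.isOpen_compl⟩
  let P : Option (Option Z) → X.Opens := fun i => i.elim G fun j => j.elim U W
  let q : ∀ i, Γ(X, P i) := fun
    | none => 1
    | some none => g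
    | some (some z) => f z
  have hq : ∀ i, (X.basicOpen (q i) : Set X) = (P i : Set X) \ E := by
    rintro (_ | _ | z)
    · show (X.basicOpen (1 : Γ(X, G)) : Set X) = (G : Set X) \ E
      rw [Scheme.basicOpen_of_isUnit _ isUnit_one]
      show Eᶜ = Eᶜ \ E
      rw [Set.sdiff_eq, Set.inter_self]
    · exact hg
    · exact hf z
  have hUW : ∀ (z : Z) (w : X), w ∈ W z → w ∈ U → w ∉ E := fun z w hw hwU hwE =>
    z.2.2.1 ((specializes_iff_mem_closure.2 (hWE z ⟨hw, hwE⟩)).mem_open U.isOpen hwU)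
  have hWW : ∀ z z' : Z, z ≠ z' → ∀ w : X, w ∈ W z → w ∈ W z' → w ∉ E := fun z z' hne w hw hw' hwE => by
    have h1 := hWE z ⟨hw, hwE⟩
    have h2 : z'.1 ⤳ w := specializes_iff_mem_closure.2 (hWE z' ⟨hw', hwE⟩)
    have h3 : z'.1 ∈ W z := h2.mem_open (W z).isOpen hw
    have h4 : z.1 ⤳ z'.1 := specializes_iff_mem_closure.2 (hWE z ⟨h3, z'.2.1⟩)
    exact hne (Subtype.ext (maximal_of_thin hgen z'.2.2.2 z.1 z.2.1 h4))
  have hPP : ∀ i j, i ≠ j → ∀ w, w ∈ P i → w ∈ P j → w ∉ E := by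
    rintro (_ | _ | z) (_ | _ | z') hne w hi hj
    · exact absurd rfl hne
    · exact hi
    · exact hi
    · exact hj
    · exact absurd rfl hne
    · exact hUW z' w hj hi
    · exact hj
    · exact hUW z w hi hj
    · exact hWW z z' (fun e => hne (by rw [e])) w hi hj
  let V : X.Opens := ⨆ i, P i
  let P' : Option (Option Z) → (V : Scheme.{u}).Opens := fun i => V.ι ⁻¹ᵁ P i
  let q' : ∀ i, Γ((V : Scheme.{u}), P' i) := fun i => V.ι.app (P i) (q i)
  have hq' : ∀ i, (V : Scheme.{u}).basicOpen (q' i) = V.ι ⁻¹ᵁ X.basicOpen (q i) := fun i =>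
    (Scheme.preimage_basicOpen V.ι (q i)).symm
  obtain ⟨N, s, hN, hs⟩ := exists_section_of_cover (W := P') (f := q')
    (fun w => show ∃ i, w.1 ∈ P i from Opens.mem_iSup.1 w.2) (fun i j hne w hw => by
      rw [hq']
      show V.ι w ∈ (X.basicOpen (q i) : Set X)
      rw [hq]
      exact ⟨hw.1, hPP i j hne _ hw.1 hw.2⟩)
  have hmem : ∀ z, Thin z → z ∈ V := fun z hz => by
    by_cases hzE : z ∈ E
    · by_cases hzU : z ∈ U
      · exact Opens.mem_iSup.2 ⟨some none, hzU⟩
      · exact Opens.mem_iSup.2 ⟨some (some ⟨z, hzE, hzU, hz⟩), hzW _⟩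
    · exact Opens.mem_iSup.2 ⟨none, hzE⟩
  refine ⟨V, G, A, N, s, Opens.mem_iSup.2 ⟨some none, hxU⟩, hmem, hyE, hA, hEA, hN, ?_, ?_⟩
  · refine Opens.ext (Set.ext fun w => ?_)
    obtain ⟨i, hi⟩ := Opens.mem_iSup.1 w.2
    have h1 : w ∈ CohB1.genLocus N s ↔ V.ι w ∈ (X.basicOpen (q i) : Set X) := by
      have h2 := SetLike.ext_iff.1 ((hs i).trans (hq' i)) w
      exact ⟨fun h => h2.1 ⟨h, hi⟩, fun h => (h2.2 h).1⟩
    refine h1.trans ?_
    rw [hq]
    exact ⟨fun h => h.2, fun h => ⟨hi, h⟩⟩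
  · refine (finite_maximal hE).subset ?_
    rintro z ⟨hz, hzG⟩
    have hzE : z ∈ E := not_not.1 hzG
    exact ⟨hzE, maximal_of_thin hgen hz⟩

end Groth.L27.AmpleFam
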