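import Groth.Agent.L27.AmpleFam.Divisor
import Groth.Agent.L18.Ample
import Groth.Agent.L18.AmplePull

/-!
# A neighbourhood containing all points of codimension at most one with an ample family
-/

set_option autoImplicit false
set_option linter.style.haveILetI false
set_option backward.isDefEq.respectTransparency false

universe u

open CategoryTheory AlgebraicGeometry TopologicalSpace

noncomputable section

namespace Groth.L27.AmpleFam

open Groth.L18.GenLoc Groth.L18.Ample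

variable {X : Scheme.{u}}

theorem isAffineOpen_preimage_ι {O V : X.Opens} (hO : IsAffineOpen O) (h : O ≤ V) : IsAffineOpen (V.ι ⁻¹ᵁ O) :=
  hO.preimage_of_isOpenImmersion V.ι (by rw [Scheme.Opens.opensRange_ι]; exact h)

theorem exists_thick_open [IsNoetherian X] (x : X) :
    ∃ V : X.Opens, x ∈ V ∧ (∀ y : X, ringKrullDim (X.presheaf.stalk y) ≤ 1 → y ∈ V) ∧
      MoreMor.HasAmpleFamily (V : Scheme.{u}) := by
  classical
  obtain ⟨Vx, Gx, Ax, Nx, sx, hxVx, hVx, hxGx, hAx, hGAx, hNx, hsx, hfin⟩ := exists_divisor x x (Or.inl rfl)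
  let T : Type u := ↥({z : X | Thin z ∧ z ∉ Gx} ∪ {x})
  haveI : Finite T := (hfin.union (Set.finite_singleton x)).to_subtype
  haveI := Fintype.ofFinite T
  have hT : ∀ t : T, t.1 = x ∨ Thin t.1 := fun t => t.2.elim (fun h => Or.inr h.1) (fun h => Or.inl h)
  choose Vt Gt At Nt st hxV hthin htG hA hGA hN hs hfin' using fun t : T => exists_divisor x t.1 (hT t)
  let o : Option T → X.Opens := fun i => i.elim Gx Gt
  let V0 : X.Opens := (Finset.univ.inf fun t : T => Vt t) ⊓ Vx ⊓ ⨆ i, o i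
  have hV0t : ∀ t, V0 ≤ Vt t := fun t => (inf_le_left.trans inf_le_left).trans (Finset.inf_le (Finset.mem_univ t))
  have hmeminf : ∀ w : X, (∀ t, w ∈ Vt t) → w ∈ Finset.univ.inf (fun t : T => Vt t) := by
    intro w hw
    have key : ∀ F : Finset T, w ∈ F.inf fun t : T => Vt t := fun F => by
      induction F using Finset.induction with
      | empty => trivial
      | @insert a F _ ih => rw [Finset.inf_insert]; exact ⟨hw a, ih⟩
    exact key _
  refine ⟨V0, ⟨⟨hmeminf x hxV, hxVx⟩, Opens.mem_iSup.2 ⟨none, hxGx⟩⟩, fun y hy => ?_, ?_⟩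
  · have hy' := thin_of_dim_le hy
    refine ⟨⟨hmeminf y fun t => hthin t y hy', hVx y hy'⟩, Opens.mem_iSup.2 ?_⟩
    by_cases hyG : y ∈ Gx
    · exact ⟨none, hyG⟩
    · exact ⟨some ⟨y, Or.inl ⟨hy', hyG⟩⟩, htG _⟩
  haveI : IsNoetherian (V0 : Scheme.{u}) :=
    { toIsLocallyNoetherian := isLocallyNoetherian_of_isOpenImmersion V0.ι
      toCompactSpace := isCompact_iff_compactSpace.1 (NoetherianSpace.isCompact _) }
  refine ⟨inferInstance, fun z => ?_⟩
  obtain ⟨V, G, A, N, s, hVV, hzG, hA', hGA', hN', hs'⟩ :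
      ∃ (V G A : X.Opens) (N : (V : Scheme.{u}).Modules) (s : Coh.structureModule (V : Scheme.{u}) ⟶ N),
        V0 ≤ V ∧ z.1 ∈ G ∧ IsAffineOpen A ∧ G ≤ A ∧ PicF.IsInvertible N ∧
          CohB1.genLocus N s = V.ι ⁻¹ᵁ G := by
    obtain ⟨_ | t, hi⟩ := Opens.mem_iSup.1 z.2.2
    · exact ⟨Vx, Gx, Ax, Nx, sx, inf_le_left.trans inf_le_right, hi, hAx, hGAx, hNx, hsx⟩
    · exact ⟨Vt t, Gt t, At t, Nt t, st t, hV0t t, hi, hA t, hGA t, hN t, hs t⟩
  let j := X.homOfLE hVV
  let L := (Scheme.Modules.pullback j).obj N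
  have hL : PicF.IsInvertible L := Groth.L18.Ample.isInvertible_pullback j hN'
  let φ := Groth.L18.Ample.pullHom j s
  have hφ : CohB1.genLocus L φ = V0.ι ⁻¹ᵁ G := by
    rw [Groth.L18.Ample.genLocus_pullHom j hN' s, hs', ← Scheme.Hom.comp_preimage, Scheme.homOfLE_ι]
  obtain ⟨h, hh, hzh⟩ := hA'.exists_basicOpen_le (V := G ⊓ V0) ⟨z.1, hzG, z.2⟩ (hGA' hzG)
  have hle : CohB1.genLocus L φ ≤ V0.ι ⁻¹ᵁ A := hφ.le.trans (V0.ι.preimage_mono hGA')
  obtain ⟨k, t, ht⟩ := Groth.L18.Ample.exists_extend_function hL φ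
    ((V0 : Scheme.{u}).presheaf.map (homOfLE hle).op (V0.ι.app A h))
  have hlocus : CohB1.genLocus _ (tensHom t φ) = V0.ι ⁻¹ᵁ X.basicOpen h := by
    rw [genLocus_tensHom (isInvertible_tensorPow hL k) hL, ht, Scheme.basicOpen_res, hφ,
      ← Scheme.preimage_basicOpen, ← Scheme.Hom.preimage_inf]
    congr 1
    exact inf_eq_right.2 (hh.trans inf_le_left)
  refine ⟨_, 1, tensHom t φ ≫ (Groth.L00.Tensor.tensorPowOne _).symm.hom,
    isInvertible_tensor (isInvertible_tensorPow hL k) hL, le_rfl, ?_, ?_⟩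
  · rw [Groth.L16.genLocus_comp_iso, hlocus]
    exact hzh
  · rw [Groth.L16.genLocus_comp_iso, hlocus]
    exact isAffineOpen_preimage_ι (hA'.basicOpen h) (hh.trans inf_le_right)

end Groth.L27.AmpleFam
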